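import Groth.Prelude.Def_Biext
import Groth.Agent.AbSch7.BiextDiv
import Mathlib.CategoryTheory.Sites.Abelian
import Mathlib.Algebra.Homology.ShortComplex.Abelian

/-! Gluing lemmas and the zero sections of a biextension. -/

set_option autoImplicit false

universe u

open CategoryTheory CategoryTheory.Limits Opposite

namespace Groth.Agent.BiextSec7

open Groth.Agent.AbSch7 (sheaf_ext setSheaf_ext act_eq_unique add₁_act_act add₂_act_act)

variable {C : Type (u + 1)} [Category.{u} C] {J : GrothendieckTopology C}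

lemma map_map (F : Cᵒᵖ ⥤ AddCommGrpCat.{u + 1}) {T U V : C} (f : U ⟶ T) (g : V ⟶ U) (x : F.obj (op T)) :
    F.map g.op (F.map f.op x) = F.map (g ≫ f).op x := by
  rw [op_comp, Functor.map_comp]; rfl

lemma map_id' (F : Cᵒᵖ ⥤ AddCommGrpCat.{u + 1}) {T : C} (x : F.obj (op T)) :
    F.map (𝟙 T).op x = x := by
  rw [op_id, CategoryTheory.Functor.map_id]; rfl

lemma tmap_map (F : Cᵒᵖ ⥤ Type (u + 1)) {T U V : C} (f : U ⟶ T) (g : V ⟶ U) (x : F.obj (op T)) :
    F.map g.op (F.map f.op x) = F.map (g ≫ f).op x := by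
  rw [op_comp, Functor.map_comp]; rfl

lemma tmap_id (F : Cᵒᵖ ⥤ Type (u + 1)) {T : C} (x : F.obj (op T)) : F.map (𝟙 T).op x = x := by
  rw [op_id, CategoryTheory.Functor.map_id]; rfl

/-- Gluing a natural, single valued, locally defined relation. -/
theorem exists_glue (M : Sheaf J (Type (u + 1))) {T : C}
    (R : ∀ ⦃U : C⦄, (U ⟶ T) → M.obj.obj (op U) → Prop)
    (hres : ∀ ⦃U V : C⦄ (g : V ⟶ U) (f : U ⟶ T) (m : M.obj.obj (op U)), R f m → R (g ≫ f) (M.obj.map g.op m))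
    (huniq : ∀ ⦃U : C⦄ (f : U ⟶ T) (m m' : M.obj.obj (op U)), R f m → R f m' → m = m')
    (hloc : ∃ S ∈ J T, ∀ ⦃U : C⦄ (f : U ⟶ T), S f → ∃ m, R f m) :
    ∃! m : M.obj.obj (op T), ∀ ⦃U : C⦄ (f : U ⟶ T) (m' : M.obj.obj (op U)), R f m' → M.obj.map f.op m = m' := by
  have hM := (isSheaf_iff_isSheaf_of_type J _).1 M.2
  let W : Sieve T :=
    { arrows := fun U f => ∃ m, R f m
      downward_closed := fun {_ _} f hf g => ⟨_, hres g f _ hf.choose_spec⟩ }
  have hW : W ∈ J T := by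
    obtain ⟨S, hS, h⟩ := hloc
    exact J.superset_covering (fun U f hf => h f hf) hS
  let fam : Presieve.FamilyOfElements M.obj W.arrows := fun U f hf => hf.choose
  have hfam : fam.Compatible := by
    intro Y₁ Y₂ Z g₁ g₂ f₁ f₂ h₁ h₂ hcomm
    exact huniq (g₁ ≫ f₁) _ _ (hres g₁ f₁ _ h₁.choose_spec) (hcomm ▸ hres g₂ f₂ _ h₂.choose_spec)
  refine ⟨(hM W hW).amalgamate fam hfam, fun U f m' h' => ?_, fun m hm => ?_⟩
  · rw [(hM W hW).valid_glue hfam f ⟨m', h'⟩]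
    exact huniq f _ _ (Exists.choose_spec (⟨m', h'⟩ : W.arrows f)) h'
  · refine setSheaf_ext M hW _ _ fun U f hf => ?_
    rw [(hM W hW).valid_glue hfam f hf]
    exact hm f _ hf.choose_spec

/-- Gluing for abelian sheaves. -/
theorem exists_glue_ab (M : Sheaf J AddCommGrpCat.{u + 1}) {T : C}
    (R : ∀ ⦃U : C⦄, (U ⟶ T) → M.obj.obj (op U) → Prop)
    (hres : ∀ ⦃U V : C⦄ (g : V ⟶ U) (f : U ⟶ T) (m : M.obj.obj (op U)), R f m → R (g ≫ f) (M.obj.map g.op m))
    (huniq : ∀ ⦃U : C⦄ (f : U ⟶ T) (m m' : M.obj.obj (op U)), R f m → R f m' → m = m')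
    (hloc : ∃ S ∈ J T, ∀ ⦃U : C⦄ (f : U ⟶ T), S f → ∃ m, R f m) :
    ∃! m : M.obj.obj (op T), ∀ ⦃U : C⦄ (f : U ⟶ T) (m' : M.obj.obj (op U)), R f m' → M.obj.map f.op m = m' :=
  exists_glue (Biext.uSh J M) R hres huniq hloc

variable {P Q G : Sheaf J AddCommGrpCat.{u + 1}} (B : Biext J P Q G)

/-- Being the zero of the second law in a fibre. -/
def IsZ {T : C} (p : P.obj.obj (op T)) (e : B.E.obj.obj (op T)) : Prop :=
  B.πP T e = p ∧ B.πQ T e = 0 ∧ B.add₂ T e e rfl = e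

lemma IsZ.map {T U : C} (f : U ⟶ T) {p : P.obj.obj (op T)} {e : B.E.obj.obj (op T)} (h : IsZ B p e) :
    IsZ B (P.obj.map f.op p) (B.E.obj.map f.op e) :=
  ⟨by rw [B.πP_map, h.1], by rw [B.πQ_map, h.2.1, map_zero],
    (B.add₂_map f e e rfl).symm.trans (congrArg _ h.2.2)⟩

lemma IsZ.unique {T : C} {p : P.obj.obj (op T)} {e e' : B.E.obj.obj (op T)} (h : IsZ B p e) (h' : IsZ B p e') :
    e = e' := by
  obtain ⟨g, hg, -⟩ := B.existsUnique_act T e e' (h.1.trans h'.1.symm) (h.2.1.trans h'.2.1.symm)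
  have h2 := h'.2.2
  simp only [← hg, add₂_act_act g g e e rfl, h.2.2] at h2
  have hg0 : g = 0 := add_eq_left.1 (act_eq_unique h2)
  rw [← hg, hg0, B.zero_act]

theorem exists_isZ {T : C} (p : P.obj.obj (op T)) : ∃ e, IsZ B p e := by
  have key : ∀ {U : C} (p : P.obj.obj (op U)) (x : B.E.obj.obj (op U)),
      B.πP U x = p → B.πQ U x = 0 → ∃ e, IsZ B p e := by
    intro U p x hp hq
    obtain ⟨g, hg, -⟩ := B.existsUnique_act U x (B.add₂ U x x rfl) (B.πP_add₂ U x x rfl).symm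
      (by rw [B.πQ_add₂, hq, add_zero])
    refine ⟨B.act U (-g) x, by rw [B.πP_act, hp], by rw [B.πQ_act, hq], ?_⟩
    rw [add₂_act_act (-g) (-g) x x rfl, ← hg, ← B.add_act]
    congr 1
    abel
  obtain ⟨e, he, -⟩ := exists_glue B.E (T := T) (fun U f e => IsZ B (P.obj.map f.op p) e)
    (fun U V g f e h => by
      have := h.map B g
      rwa [map_map] at this)
    (fun U f e e' h h' => h.unique B h') (by
      obtain ⟨S, hS, hx⟩ := B.locallySurjective T p 0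
      refine ⟨S, hS, fun U f hf => ?_⟩
      obtain ⟨x, h1, h2⟩ := hx f hf
      exact key _ x h1 (h2.trans (map_zero _)))
  obtain ⟨S, hS, hx⟩ := B.locallySurjective T p 0
  have loc : ∀ ⦃U : C⦄ (f : U ⟶ T), S f → IsZ B (P.obj.map f.op p) (B.E.obj.map f.op e) := by
    intro U f hf
    obtain ⟨x, h1, h2⟩ := hx f hf
    obtain ⟨e', he'⟩ := key _ x h1 (h2.trans (map_zero _))
    rw [he f e' he']
    exact he'
  refine ⟨e, sheaf_ext P hS _ _ fun U f hf => ?_, sheaf_ext Q hS _ _ fun U f hf => ?_,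
    setSheaf_ext B.E hS _ _ fun U f hf => ?_⟩
  · rw [← B.πP_map, (loc f hf).1]
  · rw [← B.πQ_map, (loc f hf).2.1, map_zero]
  · exact (B.add₂_map f e e rfl).trans (loc f hf).2.2

/-- The zero of the second law in the fibre over `p`. -/
noncomputable def z {T : C} (p : P.obj.obj (op T)) : B.E.obj.obj (op T) := (exists_isZ B p).choose

lemma isZ_z {T : C} (p : P.obj.obj (op T)) : IsZ B p (z B p) := (exists_isZ B p).choose_spec

lemma z_map {T U : C} (f : U ⟶ T) (p : P.obj.obj (op T)) :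
    B.E.obj.map f.op (z B p) = z B (P.obj.map f.op p) :=
  ((isZ_z B p).map B f).unique B (isZ_z B _)

lemma add₂_z {T : C} (p : P.obj.obj (op T)) (x : B.E.obj.obj (op T)) (h : B.πP T x = p) :
    B.add₂ T x (z B p) (h.trans (isZ_z B p).1.symm) = x := by
  obtain ⟨hzP, hzQ, hzz⟩ := isZ_z B p
  have hxz : B.πP T x = B.πP T (z B p) := h.trans hzP.symm
  obtain ⟨g, hg, -⟩ := B.existsUnique_act T x (B.add₂ T x (z B p) hxz)
    (B.πP_add₂ T x _ hxz).symm (by rw [B.πQ_add₂, hzQ, add_zero])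
  have h2 : B.add₂ T (B.add₂ T x (z B p) hxz) (z B p) (by rw [B.πP_add₂, hxz]) =
      B.add₂ T x (z B p) hxz := by
    rw [B.add₂_assoc T x (z B p) (z B p) hxz rfl]
    simp only [hzz]
  simp only [← hg] at h2
  rw [B.add₂_act T g x (z B p) hxz, ← hg, ← B.add_act] at h2
  have hg0 : g = 0 := add_eq_left.1 (act_eq_unique h2)
  rw [← hg, hg0, B.zero_act]

end Groth.Agent.BiextSec7
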