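import Groth.Agent.BiextSec7.Basic
import Groth.Agent.GaExt25.HomCalc

/-! The cocycle attached to an equivariant map on a biextension. -/

set_option autoImplicit false

universe u

open CategoryTheory CategoryTheory.Limits Opposite

namespace Groth.Agent.BiextSec7

open Groth.Agent.AbSch7 (sheaf_ext setSheaf_ext add₁_act_act)
open Groth.Agent.GaExt25 (mkComp comp' comp'_ext comp'_natural)

variable {C : Type (u + 1)} [Category.{u} C] {J : GrothendieckTopology C}
  {P Q G : Sheaf J AddCommGrpCat.{u + 1}}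

/-- An equivariant map from a biextension, additive for the second law. -/
structure Equi (B : Biext J P Q G) (I K : Sheaf J AddCommGrpCat.{u + 1}) where
  /-- The inclusion. -/
  j : G ⟶ I
  /-- The next map. -/
  d : I ⟶ K
  w : ∀ T g, d.hom.app (op T) (j.hom.app (op T) g) = 0
  /-- The equivariant map. -/
  i : ∀ T : C, B.E.obj.obj (op T) → I.obj.obj (op T)
  i_map : ∀ {T U : C} (f : U ⟶ T) x, i U (B.E.obj.map f.op x) = I.obj.map f.op (i T x)
  i_act : ∀ T g x, i T (B.act T g x) = j.hom.app (op T) g + i T x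
  i_add₂ : ∀ T x y h, i T (B.add₂ T x y h) = i T x + i T y

/-- Naturality on sections. -/
lemma app_map {M N : Sheaf J AddCommGrpCat.{u + 1}} (φ : M ⟶ N) {T U : C} (f : U ⟶ T) (a : M.obj.obj (op T)) :
    φ.hom.app (op U) (M.obj.map f.op a) = N.obj.map f.op (φ.hom.app (op T) a) :=
  ConcreteCategory.congr_hom (φ.hom.naturality f.op) a

/-- Existence of points over a pair, as a predicate on arrows. -/
def Over2 (B : Biext J P Q G) {T : C} (p : P.obj.obj (op T)) (q : Q.obj.obj (op T)) {U : C} (f : U ⟶ T)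
    (x : B.E.obj.obj (op U)) : Prop :=
  B.πP U x = P.obj.map f.op p ∧ B.πQ U x = Q.obj.map f.op q

lemma Over2.res {B : Biext J P Q G} {T : C} {p : P.obj.obj (op T)} {q : Q.obj.obj (op T)} {U V : C}
    {f : U ⟶ T} {x : B.E.obj.obj (op U)} (h : Over2 B p q f x) (g : V ⟶ U) :
    Over2 B p q (g ≫ f) (B.E.obj.map g.op x) :=
  ⟨by rw [B.πP_map, h.1, map_map], by rw [B.πQ_map, h.2, map_map]⟩

lemma Over2.id {B : Biext J P Q G} {T : C} (x : B.E.obj.obj (op T)) :
    Over2 B (B.πP T x) (B.πQ T x) (𝟙 T) x :=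
  ⟨(map_id' P.obj _).symm, (map_id' Q.obj _).symm⟩

lemma eq_of_over2 (B : Biext J P Q G) (M : Sheaf J AddCommGrpCat.{u + 1}) {T : C} (p : P.obj.obj (op T))
    (q : Q.obj.obj (op T)) {a b : M.obj.obj (op T)}
    (h : ∀ {U : C} (f : U ⟶ T) x, Over2 B p q f x → M.obj.map f.op a = M.obj.map f.op b) : a = b := by
  obtain ⟨S, hS, hx⟩ := B.locallySurjective T p q
  refine sheaf_ext M hS _ _ fun U f hf => ?_
  obtain ⟨x, h1, h2⟩ := hx f hf
  exact h f x ⟨h1, h2⟩

lemma eq_of_over2₂ (B : Biext J P Q G) (M : Sheaf J AddCommGrpCat.{u + 1}) {T : C} (p p' : P.obj.obj (op T))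
    (q q' : Q.obj.obj (op T)) {a b : M.obj.obj (op T)}
    (h : ∀ {U : C} (f : U ⟶ T) x y, Over2 B p q f x → Over2 B p' q' f y → M.obj.map f.op a = M.obj.map f.op b) :
    a = b :=
  eq_of_over2 B M p q fun {U} f x hx => by
    refine eq_of_over2 B M (P.obj.map f.op p') (Q.obj.map f.op q') fun {V} g y hy => ?_
    rw [map_map, map_map]
    refine h (g ≫ f) _ y (hx.res g) ⟨hy.1.trans (map_map ..), hy.2.trans (map_map ..)⟩

variable {B : Biext J P Q G} {I K : Sheaf J AddCommGrpCat.{u + 1}} (e : Equi B I K)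

lemma exists_k2 {T : C} (p : P.obj.obj (op T)) (q : Q.obj.obj (op T)) :
    ∃ m : K.obj.obj (op T), ∀ {U : C} (f : U ⟶ T) x, Over2 B p q f x →
      K.obj.map f.op m = e.d.hom.app (op U) (e.i U x) := by
  obtain ⟨m, hm, -⟩ := exists_glue_ab K (T := T)
    (fun U f m => ∃ x, Over2 B p q f x ∧ m = e.d.hom.app (op U) (e.i U x))
    (fun U V g f m ⟨x, hx, hm⟩ => ⟨_, hx.res g, by rw [hm, e.i_map, app_map]⟩)
    (fun U f m m' ⟨x, hx, hm⟩ ⟨x', hx', hm'⟩ => by
      obtain ⟨g, hg, -⟩ := B.existsUnique_act U x x' (hx.1.trans hx'.1.symm) (hx.2.trans hx'.2.symm)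
      rw [hm, hm', ← hg, e.i_act, map_add, e.w, zero_add])
    (by
      obtain ⟨S, hS, hx⟩ := B.locallySurjective T p q
      exact ⟨S, hS, fun U f hf => ⟨_, _, (hx f hf).choose_spec, rfl⟩⟩)
  exact ⟨m, fun {U} f x hx => hm f _ ⟨x, hx, rfl⟩⟩

/-- The class of a lift. -/
noncomputable def k2 {T : C} (p : P.obj.obj (op T)) (q : Q.obj.obj (op T)) : K.obj.obj (op T) :=
  (exists_k2 e p q).choose

lemma k2_spec {T : C} {p : P.obj.obj (op T)} {q : Q.obj.obj (op T)} {U : C} (f : U ⟶ T)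
    (x : B.E.obj.obj (op U)) (h : Over2 B p q f x) :
    K.obj.map f.op (k2 e p q) = e.d.hom.app (op U) (e.i U x) :=
  (exists_k2 e p q).choose_spec f x h

lemma k2_eq {T : C} (x : B.E.obj.obj (op T)) : k2 e (B.πP T x) (B.πQ T x) = e.d.hom.app (op T) (e.i T x) := by
  rw [← k2_spec e (𝟙 T) x (Over2.id x), map_id']

lemma k2_map {T U : C} (f : U ⟶ T) (p : P.obj.obj (op T)) (q : Q.obj.obj (op T)) :
    K.obj.map f.op (k2 e p q) = k2 e (P.obj.map f.op p) (Q.obj.map f.op q) :=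
  eq_of_over2 B K (P.obj.map f.op p) (Q.obj.map f.op q) fun {V} g x hx => by
    rw [map_map, k2_spec e g x hx,
      k2_spec e (g ≫ f) x ⟨hx.1.trans (map_map ..), hx.2.trans (map_map ..)⟩]

lemma k2_add₂ {T : C} (p : P.obj.obj (op T)) (q q' : Q.obj.obj (op T)) :
    k2 e p (q + q') = k2 e p q + k2 e p q' :=
  eq_of_over2₂ B K p p q q' fun {U} f x y hx hy => by
    rw [map_add, k2_spec e f x hx, k2_spec e f y hy,
      k2_spec e f (B.add₂ U x y (hx.1.trans hy.1.symm))
        ⟨(B.πP_add₂ ..).trans hx.1, by rw [B.πQ_add₂, hx.2, hy.2, map_add]⟩, e.i_add₂, map_add]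

lemma exists_c2 {T : C} (p p' : P.obj.obj (op T)) (q : Q.obj.obj (op T)) :
    ∃ m : I.obj.obj (op T), ∀ {U : C} (f : U ⟶ T) x y (hx : Over2 B p q f x) (hy : Over2 B p' q f y),
      I.obj.map f.op m = e.i U (B.add₁ U x y (hx.2.trans hy.2.symm)) - e.i U x - e.i U y := by
  obtain ⟨m, hm, -⟩ := exists_glue_ab I (T := T)
    (fun U f m => ∃ x y, ∃ (hx : Over2 B p q f x) (hy : Over2 B p' q f y),
      m = e.i U (B.add₁ U x y (hx.2.trans hy.2.symm)) - e.i U x - e.i U y)
    (fun U V g f m ⟨x, y, hx, hy, hm⟩ => ⟨_, _, hx.res g, hy.res g, by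
      rw [hm, map_sub, map_sub, ← e.i_map, ← e.i_map, ← e.i_map]
      simp only [B.add₁_map]⟩)
    (fun U f m m' ⟨x, y, hx, hy, hm⟩ ⟨x', y', hx', hy', hm'⟩ => by
      obtain ⟨g, hg, -⟩ := B.existsUnique_act U x x' (hx.1.trans hx'.1.symm) (hx.2.trans hx'.2.symm)
      obtain ⟨g', hg', -⟩ := B.existsUnique_act U y y' (hy.1.trans hy'.1.symm) (hy.2.trans hy'.2.symm)
      subst hg hg'
      rw [hm, hm']
      simp only [add₁_act_act (B := B) g g' x y (hx.2.trans hy.2.symm), e.i_act, map_add]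
      abel)
    (by
      obtain ⟨S, hS, hx⟩ := B.locallySurjective T p q
      obtain ⟨S', hS', hy⟩ := B.locallySurjective T p' q
      exact ⟨S ⊓ S', J.intersection_covering hS hS', fun U f hf =>
        ⟨_, _, _, (hx f hf.1).choose_spec, (hy f hf.2).choose_spec, rfl⟩⟩)
  exact ⟨m, fun {U} f x y hx hy => hm f _ ⟨x, y, hx, hy, rfl⟩⟩

/-- The defect of additivity for the first law. -/
noncomputable def c2 {T : C} (p p' : P.obj.obj (op T)) (q : Q.obj.obj (op T)) : I.obj.obj (op T) :=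
  (exists_c2 e p p' q).choose

lemma c2_spec {T : C} {p p' : P.obj.obj (op T)} {q : Q.obj.obj (op T)} {U : C} (f : U ⟶ T)
    (x y : B.E.obj.obj (op U)) (hx : Over2 B p q f x) (hy : Over2 B p' q f y) :
    I.obj.map f.op (c2 e p p' q) = e.i U (B.add₁ U x y (hx.2.trans hy.2.symm)) - e.i U x - e.i U y :=
  (exists_c2 e p p' q).choose_spec f x y hx hy

lemma i_add₁ {T : C} (x y : B.E.obj.obj (op T)) (h : B.πQ T x = B.πQ T y) :
    e.i T (B.add₁ T x y h) = e.i T x + e.i T y + c2 e (B.πP T x) (B.πP T y) (B.πQ T x) := by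
  have := c2_spec e (𝟙 T) x y (Over2.id x) ⟨(map_id' P.obj _).symm, h.symm.trans (map_id' Q.obj _).symm⟩
  rw [map_id'] at this
  rw [this]
  abel

lemma c2_map {T U : C} (f : U ⟶ T) (p p' : P.obj.obj (op T)) (q : Q.obj.obj (op T)) :
    I.obj.map f.op (c2 e p p' q) = c2 e (P.obj.map f.op p) (P.obj.map f.op p') (Q.obj.map f.op q) :=
  eq_of_over2₂ B I (P.obj.map f.op p) (P.obj.map f.op p') (Q.obj.map f.op q) (Q.obj.map f.op q)
    fun {V} g x y hx hy => by
      rw [map_map, c2_spec e g x y hx hy,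
        c2_spec e (g ≫ f) x y ⟨hx.1.trans (map_map ..), hx.2.trans (map_map ..)⟩
          ⟨hy.1.trans (map_map ..), hy.2.trans (map_map ..)⟩]

lemma k2_add₁ {T : C} (p p' : P.obj.obj (op T)) (q : Q.obj.obj (op T)) :
    k2 e (p + p') q = k2 e p q + k2 e p' q + e.d.hom.app (op T) (c2 e p p' q) :=
  eq_of_over2₂ B K p p' q q fun {U} f x y hx hy => by
    rw [map_add, map_add, k2_spec e f x hx, k2_spec e f y hy, ← app_map, c2_spec e f x y hx hy,
      k2_spec e f (B.add₁ U x y (hx.2.trans hy.2.symm))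
        ⟨by rw [B.πP_add₁, hx.1, hy.1, map_add], (B.πQ_add₁ ..).trans hx.2⟩, map_sub, map_sub]
    abel

lemma c2_comm {T : C} (p p' : P.obj.obj (op T)) (q : Q.obj.obj (op T)) : c2 e p p' q = c2 e p' p q :=
  eq_of_over2₂ B I p p' q q fun {U} f x y hx hy => by
    rw [c2_spec e f x y hx hy, c2_spec e f y x hy hx]
    simp only [B.add₁_comm U x y (hx.2.trans hy.2.symm)]
    abel

lemma c2_add₂ {T : C} (p p' : P.obj.obj (op T)) (q q' : Q.obj.obj (op T)) :
    c2 e p p' (q + q') = c2 e p p' q + c2 e p p' q' :=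
  eq_of_over2₂ B I p p' q q fun {U} f x z hx hz => by
    refine eq_of_over2₂ B I (P.obj.map f.op p) (P.obj.map f.op p') (Q.obj.map f.op q') (Q.obj.map f.op q')
      fun {V} g y t hy ht => ?_
    have hx' := hx.res g
    have hz' := hz.res g
    have hy' : Over2 B p q' (g ≫ f) y := ⟨hy.1.trans (map_map ..), hy.2.trans (map_map ..)⟩
    have ht' : Over2 B p' q' (g ≫ f) t := ⟨ht.1.trans (map_map ..), ht.2.trans (map_map ..)⟩
    set x' := B.E.obj.map g.op x
    set z' := B.E.obj.map g.op z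
    have hs : Over2 B p (q + q') (g ≫ f) (B.add₂ V x' y (hx'.1.trans hy'.1.symm)) :=
      ⟨(B.πP_add₂ ..).trans hx'.1, by rw [B.πQ_add₂, hx'.2, hy'.2, map_add]⟩
    have hs' : Over2 B p' (q + q') (g ≫ f) (B.add₂ V z' t (hz'.1.trans ht'.1.symm)) :=
      ⟨(B.πP_add₂ ..).trans hz'.1, by rw [B.πQ_add₂, hz'.2, ht'.2, map_add]⟩
    rw [map_map, map_map, map_add, c2_spec e _ _ _ hs hs', c2_spec e _ _ _ hx' hz',
      c2_spec e _ _ _ hy' ht', B.compat V x' y z' t (hx'.1.trans hy'.1.symm) (hz'.1.trans ht'.1.symm)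
        (hx'.2.trans hz'.2.symm) (hy'.2.trans ht'.2.symm), e.i_add₂, e.i_add₂, e.i_add₂]
    abel

lemma c2_assoc {T : C} (p p' p'' : P.obj.obj (op T)) (q : Q.obj.obj (op T)) :
    c2 e p p' q + c2 e (p + p') p'' q = c2 e p (p' + p'') q + c2 e p' p'' q :=
  eq_of_over2₂ B I p p' q q fun {U} f x y hx hy => by
    refine eq_of_over2 B I (P.obj.map f.op p'') (Q.obj.map f.op q) fun {V} g w hw => ?_
    have hx' := hx.res g
    have hy' := hy.res g
    have hw' : Over2 B p'' q (g ≫ f) w := ⟨hw.1.trans (map_map ..), hw.2.trans (map_map ..)⟩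
    set x' := B.E.obj.map g.op x
    set y' := B.E.obj.map g.op y
    have hxy : Over2 B (p + p') q (g ≫ f) (B.add₁ V x' y' (hx'.2.trans hy'.2.symm)) :=
      ⟨by rw [B.πP_add₁, hx'.1, hy'.1, map_add], (B.πQ_add₁ ..).trans hx'.2⟩
    have hyw : Over2 B (p' + p'') q (g ≫ f) (B.add₁ V y' w (hy'.2.trans hw'.2.symm)) :=
      ⟨by rw [B.πP_add₁, hy'.1, hw'.1, map_add], (B.πQ_add₁ ..).trans hy'.2⟩
    rw [map_map, map_map, map_add, map_add, c2_spec e _ _ _ hx' hy', c2_spec e _ _ _ hxy hw',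
      c2_spec e _ _ _ hx' hyw, c2_spec e _ _ _ hy' hw']
    simp only [B.add₁_assoc V x' y' w (hx'.2.trans hy'.2.symm) (hy'.2.trans hw'.2.symm)]
    abel

/-- The morphism attached to `p`. -/
noncomputable def kHom {T : C} (p : P.obj.obj (op T)) : (HomSh.homSh J Q K).obj.obj (op T) :=
  mkComp (F := Q) (G := K) (T := T)
    (fun U f => AddMonoidHom.mk' (fun q => k2 e (P.obj.map f.op p) q) (fun q q' => k2_add₂ e _ q q'))
    (fun U V g f x => by
      show K.obj.map g.op (k2 e _ x) = k2 e _ _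
      rw [k2_map, map_map])

lemma comp'_kHom {T U : C} (p : P.obj.obj (op T)) (f : U ⟶ T) (q : Q.obj.obj (op U)) :
    comp' (F := Q) (G := K) (kHom e p) f q = k2 e (P.obj.map f.op p) q := rfl

/-- The morphism attached to `p, p'`. -/
noncomputable def cHom {T : C} (p p' : P.obj.obj (op T)) : (HomSh.homSh J Q I).obj.obj (op T) :=
  mkComp (F := Q) (G := I) (T := T)
    (fun U f => AddMonoidHom.mk' (fun q => c2 e (P.obj.map f.op p) (P.obj.map f.op p') q)
      (fun q q' => c2_add₂ e _ _ q q'))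
    (fun U V g f x => by
      show I.obj.map g.op (c2 e _ _ x) = c2 e _ _ _
      rw [c2_map, map_map, map_map])

lemma kHom_map {T U : C} (f : U ⟶ T) (p : P.obj.obj (op T)) :
    (HomSh.homSh J Q K).obj.map f.op (kHom e p) = kHom e (P.obj.map f.op p) := by
  refine comp'_ext (F := Q) (G := K) (T := U) fun V g q => ?_
  show k2 e (P.obj.map (g ≫ f).op p) q = k2 e (P.obj.map g.op (P.obj.map f.op p)) q
  rw [map_map]

lemma cHom_map {T U : C} (f : U ⟶ T) (p p' : P.obj.obj (op T)) :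
    (HomSh.homSh J Q I).obj.map f.op (cHom e p p') = cHom e (P.obj.map f.op p) (P.obj.map f.op p') := by
  refine comp'_ext (F := Q) (G := I) (T := U) fun V g q => ?_
  show c2 e (P.obj.map (g ≫ f).op p) (P.obj.map (g ≫ f).op p') q =
    c2 e (P.obj.map g.op (P.obj.map f.op p)) (P.obj.map g.op (P.obj.map f.op p')) q
  rw [map_map, map_map]

/-- Composition with the differential. -/
noncomputable abbrev dH (T : C) :
    (HomSh.homSh J Q I).obj.obj (op T) →+ (HomSh.homSh J Q K).obj.obj (op T) :=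
  ((HomSh.homShMap J (𝟙 Q) e.d).hom.app (op T)).hom

lemma kHom_add {T : C} (p p' : P.obj.obj (op T)) :
    kHom e (p + p') = kHom e p + kHom e p' + dH e T (cHom e p p') := by
  refine comp'_ext (F := Q) (G := K) (T := T) fun U f q => ?_
  show k2 e (P.obj.map f.op (p + p')) q = k2 e (P.obj.map f.op p) q + k2 e (P.obj.map f.op p') q +
    e.d.hom.app (op U) (c2 e (P.obj.map f.op p) (P.obj.map f.op p') q)
  rw [map_add, k2_add₁]

lemma cHom_comm {T : C} (p p' : P.obj.obj (op T)) : cHom e p p' = cHom e p' p :=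
  comp'_ext (F := Q) (G := I) (T := T) fun _ _ q => c2_comm e _ _ q

lemma cHom_assoc {T : C} (p p' p'' : P.obj.obj (op T)) :
    cHom e p p' + cHom e (p + p') p'' = cHom e p (p' + p'') + cHom e p' p'' := by
  refine comp'_ext (F := Q) (G := I) (T := T) fun U f q => ?_
  show c2 e (P.obj.map f.op p) (P.obj.map f.op p') q + c2 e (P.obj.map f.op (p + p')) (P.obj.map f.op p'') q =
    c2 e (P.obj.map f.op p) (P.obj.map f.op (p' + p'')) q + c2 e (P.obj.map f.op p') (P.obj.map f.op p'') q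
  rw [map_add, map_add, c2_assoc]

end Groth.Agent.BiextSec7
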