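import Groth.Agent.BiextSec7.Basic
import Mathlib.Algebra.Category.Grp.EnoughInjectives
import Mathlib.Algebra.Category.Grp.Adjunctions
import Mathlib.CategoryTheory.Sites.LeftExact
import Mathlib.GroupTheory.MonoidLocalization.GrothendieckGroup

/-! An equivariant map from a biextension to an injective sheaf, additive for the second law. -/

set_option autoImplicit false

universe u

open CategoryTheory CategoryTheory.Limits Opposite

namespace Groth.Agent.BiextSec7

open Groth.Agent.AbSch7 (act_eq_unique add₂_act_act)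

variable {C : Type (u + 1)} [Category.{u} C] {J : GrothendieckTopology C}
  {P Q G : Sheaf J AddCommGrpCat.{u + 1}} (B : Biext J P Q G)

/-- The fibre over `p` as a monoid. -/
def Fib {T : C} (p : P.obj.obj (op T)) : Type (u + 1) := {x : B.E.obj.obj (op T) // B.πP T x = p}

noncomputable instance {T : C} (p : P.obj.obj (op T)) : Add (Fib B p) :=
  ⟨fun x y => ⟨B.add₂ T x.1 y.1 (x.2.trans y.2.symm), (B.πP_add₂ ..).trans x.2⟩⟩

noncomputable instance {T : C} (p : P.obj.obj (op T)) : Zero (Fib B p) :=
  ⟨⟨z B p, (isZ_z B p).1⟩⟩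

noncomputable instance {T : C} (p : P.obj.obj (op T)) : AddCommMonoid (Fib B p) where
  add_assoc x y w := Subtype.ext (B.add₂_assoc T x.1 y.1 w.1 (x.2.trans y.2.symm) (y.2.trans w.2.symm))
  add_comm x y := Subtype.ext (B.add₂_comm ..)
  add_zero x := Subtype.ext (add₂_z B p x.1 x.2)
  zero_add x := Subtype.ext ((B.add₂_comm ..).trans (add₂_z B p x.1 x.2))
  nsmul := nsmulRec

lemma Fib.add_val {T : C} {p : P.obj.obj (op T)} (x y : Fib B p) :
    (x + y).1 = B.add₂ T x.1 y.1 (x.2.trans y.2.symm) := rfl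

lemma act_add_cancel {T : C} (x y : B.E.obj.obj (op T)) (h : B.πP T x = B.πP T y) (g : G.obj.obj (op T)) :
    B.add₂ T (B.act T g x) y (by rw [B.πP_act, h]) = B.act T g (B.add₂ T x y h) :=
  B.add₂_act T g x y h

theorem exists_fib_functional {T : C} (p : P.obj.obj (op T)) (D : AddCommGrpCat.{u + 1}) [Injective D]
    (j : G.obj.obj (op T) ⟶ D) :
    ∃ l : Fib B p → D, (∀ x y, l (x + y) = l x + l y) ∧
      ∀ (g : G.obj.obj (op T)) (x : Fib B p), l ⟨B.act T g x.1, by rw [B.πP_act, x.2]⟩ = j g + l x := by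
  classical
  let L := Algebra.GrothendieckAddGroup (Fib B p)
  let of : Fib B p →+ L := Algebra.GrothendieckAddGroup.of
  let actF : G.obj.obj (op T) → Fib B p → Fib B p := fun g x => ⟨B.act T g x.1, by rw [B.πP_act, x.2]⟩
  have hact : ∀ g (x y : Fib B p), actF g x + y = actF g (x + y) :=
    fun g x y => Subtype.ext (B.add₂_act T g x.1 y.1 (x.2.trans y.2.symm))
  let ι : AddCommGrpCat.of (G.obj.obj (op T)) ⟶ AddCommGrpCat.of L :=
    AddCommGrpCat.ofHom (AddMonoidHom.mk' (fun g => of (actF g 0)) fun g g' => by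
      rw [← map_add, hact, zero_add]
      congr 1
      exact Subtype.ext (B.add_act ..))
  have hcancel : ∀ x y w : Fib B p, x + w = y + w → x = y := by
    intro x y w h
    have hq : B.πQ T x.1 = B.πQ T y.1 := by
      have := congrArg (B.πQ T) (congrArg Subtype.val h)
      rw [Fib.add_val, Fib.add_val, B.πQ_add₂, B.πQ_add₂] at this
      exact add_right_cancel this
    obtain ⟨g, hg, -⟩ := B.existsUnique_act T x.1 y.1 (x.2.trans y.2.symm) hq
    have hy : y = actF g x := Subtype.ext hg.symm
    rw [hy, hact] at h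
    have h' : B.act T g (x + w).1 = B.act T 0 (x + w).1 := by
      rw [B.zero_act]; exact (congrArg Subtype.val h).symm
    rw [hy]
    exact Subtype.ext (by show x.1 = B.act T g x.1; rw [act_eq_unique h', B.zero_act])
  have hinj : Mono ι := by
    rw [AddCommGrpCat.mono_iff_injective]
    intro g g' h
    change of (actF g 0) = of (actF g' 0) at h
    obtain ⟨w, hw⟩ := (AddLocalization.addMonoidOf ⊤).exists_of_eq h
    have h0 : actF g 0 = actF g' 0 := hcancel _ _ w.1 (by rw [add_comm, hw, add_comm])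
    exact act_eq_unique (congrArg Subtype.val h0)
  let jj : AddCommGrpCat.of (G.obj.obj (op T)) ⟶ D := j
  let Λ := Injective.factorThru jj ι
  have hΛ : ∀ g, Λ (of (actF g 0)) = j g := fun g => ConcreteCategory.congr_hom (Injective.comp_factorThru jj ι) g
  refine ⟨fun x => Λ (of x), fun x y => by show Λ (of (x + y)) = _; rw [map_add, map_add], fun g x => ?_⟩
  have : actF g x = actF g 0 + x := by rw [hact, zero_add]
  show Λ (of (actF g x)) = _
  rw [this, map_add, map_add, hΛ]

/-- The relations of the envelope. -/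
def rels (T : C) : Set ((B.E.obj.obj (op T) →₀ ℤ) × G.obj.obj (op T)) :=
  {w | (∃ g x, w = (Finsupp.single (B.act T g x) 1 - Finsupp.single x 1, -g)) ∨
    ∃ x y h, w = (Finsupp.single (B.add₂ T x y h) 1 - Finsupp.single x 1 - Finsupp.single y 1, 0)}

/-- Restriction before passing to the quotient. -/
noncomputable def resW {T U : C} (f : U ⟶ T) :
    ((B.E.obj.obj (op T) →₀ ℤ) × G.obj.obj (op T)) →+ ((B.E.obj.obj (op U) →₀ ℤ) × G.obj.obj (op U)) :=
  (Finsupp.mapDomain.addMonoidHom (B.E.obj.map f.op : B.E.obj.obj (op T) → B.E.obj.obj (op U))).prodMap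
    (G.obj.map f.op).hom

lemma resW_rels {T U : C} (f : U ⟶ T) :
    AddSubgroup.closure (rels B T) ≤ (AddSubgroup.closure (rels B U)).comap (resW B f) := by
  rw [AddSubgroup.closure_le]
  rintro w (⟨g, x, rfl⟩ | ⟨x, y, h, rfl⟩)
  · exact AddSubgroup.subset_closure (Or.inl ⟨G.obj.map f.op g, B.E.obj.map f.op x,
      by simp [resW, B.act_map, Finsupp.mapDomain_single, sub_eq_add_neg, Finsupp.mapDomain_add,
        ← Finsupp.single_neg]⟩)
  · exact AddSubgroup.subset_closure (Or.inr ⟨B.E.obj.map f.op x, B.E.obj.map f.op y,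
      (B.πP_map f x).trans ((congrArg _ h).trans (B.πP_map f y).symm),
      by simp [resW, B.add₂_map, Finsupp.mapDomain_single, sub_eq_add_neg, Finsupp.mapDomain_add,
        ← Finsupp.single_neg]⟩)

/-- The presheaf envelope. -/
noncomputable def envPre : Cᵒᵖ ⥤ AddCommGrpCat.{u + 1} where
  obj T := AddCommGrpCat.of (((B.E.obj.obj (op (unop T)) →₀ ℤ) × G.obj.obj (op (unop T))) ⧸
    AddSubgroup.closure (rels B (unop T)))
  map f := AddCommGrpCat.ofHom (QuotientAddGroup.map _ _ (resW B f.unop) (resW_rels B f.unop))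
  map_id T := AddCommGrpCat.ext fun w => by
    obtain ⟨⟨a, g⟩, rfl⟩ := QuotientAddGroup.mk'_surjective _ w
    show QuotientAddGroup.mk (resW B (𝟙 (unop T)) (a, g)) = QuotientAddGroup.mk (a, g)
    congr 1
    refine Prod.ext ?_ (map_id' G.obj g)
    show Finsupp.mapDomain _ a = a
    convert Finsupp.mapDomain_id
    funext x
    exact tmap_id B.E.obj x
  map_comp {S T U} f g := AddCommGrpCat.ext fun w => by
    obtain ⟨⟨a, h⟩, rfl⟩ := QuotientAddGroup.mk'_surjective _ w
    show QuotientAddGroup.mk (resW B (g.unop ≫ f.unop) (a, h)) =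
      QuotientAddGroup.mk (resW B g.unop (resW B f.unop (a, h)))
    congr 1
    refine Prod.ext ?_ (map_map G.obj f.unop g.unop h).symm
    show Finsupp.mapDomain _ a = Finsupp.mapDomain _ (Finsupp.mapDomain _ a)
    rw [← Finsupp.mapDomain_comp]
    congr 1
    funext x
    exact (tmap_map B.E.obj f.unop g.unop x).symm

/-- The inclusion of `G` in the envelope. -/
noncomputable def envIncl : G.obj ⟶ envPre B where
  app T := AddCommGrpCat.ofHom ((QuotientAddGroup.mk' _).comp (AddMonoidHom.inr _ _))
  naturality T U f := AddCommGrpCat.ext fun g => by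
    show QuotientAddGroup.mk ((0 : B.E.obj.obj (op (unop U)) →₀ ℤ), G.obj.map f g) =
      QuotientAddGroup.mk (resW B f.unop (0, g))
    exact congrArg QuotientAddGroup.mk (Prod.ext (map_zero (Finsupp.mapDomain.addMonoidHom (B.E.obj.map f : B.E.obj.obj (op (unop T)) → B.E.obj.obj (op (unop U))))).symm rfl)

instance mono_envIncl : Mono (envIncl B) := by
  rw [NatTrans.mono_iff_mono_app]
  intro T
  rw [AddCommGrpCat.mono_iff_injective]
  obtain ⟨T⟩ := T
  let D := Injective.under (G.obj.obj (op T))
  let j : G.obj.obj (op T) ⟶ D := Injective.ι _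
  have hj : Function.Injective j := (AddCommGrpCat.mono_iff_injective j).1 inferInstance
  choose l hadd hact using fun p => exists_fib_functional B (T := T) p D j
  let L : B.E.obj.obj (op T) → D := fun x => l (B.πP T x) ⟨x, rfl⟩
  have hL : ∀ (p : P.obj.obj (op T)) (x : Fib B p), L x.1 = l p x := by
    rintro p ⟨x, rfl⟩; rfl
  let Φ : (B.E.obj.obj (op T) →₀ ℤ) →+ D := Finsupp.liftAddHom fun x => (zmultiplesHom D (L x))
  have hΦ : ∀ a, Φ (Finsupp.single a 1) = L a := fun a => by simp [Φ]
  let F : ((B.E.obj.obj (op T) →₀ ℤ) × G.obj.obj (op T)) →+ D := Φ.coprod j.hom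
  have hF : AddSubgroup.closure (rels B T) ≤ F.ker := by
    rw [AddSubgroup.closure_le]
    rintro w (⟨g, x, rfl⟩ | ⟨x, y, h, rfl⟩)
    · show F _ = 0
      have h1 : L (B.act T g x) = j g + L x :=
        (hL (B.πP T x) ⟨B.act T g x, B.πP_act T g x⟩).trans (hact _ g ⟨x, rfl⟩)
      show Φ (Finsupp.single (B.act T g x) 1 - Finsupp.single x 1) + j.hom (-g) = 0
      rw [map_sub, map_neg, hΦ, hΦ, h1]
      change j g + L x - L x + -(j g) = 0
      abel
    · show F _ = 0
      let x' : Fib B (B.πP T x) := ⟨x, rfl⟩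
      let y' : Fib B (B.πP T x) := ⟨y, h.symm⟩
      have h1 : L (B.add₂ T x y h) = L x + L y :=
        (hL (B.πP T x) (x' + y')).trans
          ((hadd _ x' y').trans (congrArg₂ (· + ·) (hL _ x').symm (hL _ y').symm))
      show Φ (Finsupp.single (B.add₂ T x y h) 1 - Finsupp.single x 1 - Finsupp.single y 1) + j.hom 0 = 0
      rw [map_sub, map_sub, map_zero, hΦ, hΦ, hΦ, h1]
      abel
  intro g g' h
  apply hj
  have := congrArg (QuotientAddGroup.lift _ F hF) h
  change F (0, g) = F (0, g') at this
  simpa [F] using this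

variable [HasSheafify J AddCommGrpCat.{u + 1}]

/-- The map from `G` to the sheafified envelope. -/
noncomputable def envMap : G ⟶ (presheafToSheaf J AddCommGrpCat.{u + 1}).obj (envPre B) :=
  inv ((sheafificationAdjunction J AddCommGrpCat.{u + 1}).counit.app G) ≫
    (presheafToSheaf J AddCommGrpCat.{u + 1}).map (envIncl B)

theorem exists_equivariant (I : Sheaf J AddCommGrpCat.{u + 1}) [Injective I] (j : G ⟶ I) :
    ∃ i : ∀ T : C, B.E.obj.obj (op T) → I.obj.obj (op T),
      (∀ {T U : C} (f : U ⟶ T) x, i U (B.E.obj.map f.op x) = I.obj.map f.op (i T x)) ∧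
      (∀ T g x, i T (B.act T g x) = j.hom.app (op T) g + i T x) ∧
      ∀ T x y h, i T (B.add₂ T x y h) = i T x + i T y := by
  have : Mono ((presheafToSheaf J AddCommGrpCat.{u + 1}).map (envIncl B)) :=
    Functor.map_mono _ _
  have : Mono (envMap B) := mono_comp _ _
  let e := Injective.factorThru j (envMap B)
  let η : envPre B ⟶ I.obj := (sheafificationAdjunction J AddCommGrpCat.{u + 1}).homEquiv _ _ e
  have hη : envIncl B ≫ η = j.hom := by
    have h1 : envIncl B ≫ η = (sheafificationAdjunction J AddCommGrpCat.{u + 1}).homEquiv _ _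
        ((presheafToSheaf J AddCommGrpCat.{u + 1}).map (envIncl B) ≫ e) :=
      ((sheafificationAdjunction J AddCommGrpCat.{u + 1}).homEquiv_naturality_left _ _).symm
    have h2 : (presheafToSheaf J AddCommGrpCat.{u + 1}).map (envIncl B) ≫ e =
        (sheafificationAdjunction J AddCommGrpCat.{u + 1}).counit.app G ≫ j := by
      have h : (inv ((sheafificationAdjunction J AddCommGrpCat.{u + 1}).counit.app G) ≫
          (presheafToSheaf J AddCommGrpCat.{u + 1}).map (envIncl B)) ≫ e = j :=
        Injective.comp_factorThru j (envMap B)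
      rw [Category.assoc, IsIso.inv_comp_eq] at h
      exact h
    have h3 : (sheafificationAdjunction J AddCommGrpCat.{u + 1}).counit.app G ≫ j =
        ((sheafificationAdjunction J AddCommGrpCat.{u + 1}).homEquiv G.obj I).symm j.hom := by
      rw [Adjunction.homEquiv_counit]
      exact ((sheafificationAdjunction J AddCommGrpCat.{u + 1}).counit.naturality j).symm
    rw [h1, h2, h3]
    exact Equiv.apply_symm_apply _ _
  let cl : ∀ T, ((B.E.obj.obj (op T) →₀ ℤ) × G.obj.obj (op T)) →+ I.obj.obj (op T) := fun T =>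
    (η.app (op T)).hom.comp (QuotientAddGroup.mk' (AddSubgroup.closure (rels B T)))
  have hcl : ∀ T w, w ∈ rels B T → cl T w = 0 := by
    intro T w hw
    show η.app (op T) (QuotientAddGroup.mk w) = 0
    have hz : (QuotientAddGroup.mk w : ((B.E.obj.obj (op T) →₀ ℤ) × G.obj.obj (op T)) ⧸
        AddSubgroup.closure (rels B T)) = 0 :=
      (QuotientAddGroup.eq_zero_iff w).2 (AddSubgroup.subset_closure hw)
    exact (congrArg (η.app (op T)).hom hz).trans (map_zero _)
  have hj : ∀ T g, cl T (0, g) = j.hom.app (op T) g := fun T g =>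
    ConcreteCategory.congr_hom (NatTrans.congr_app hη (op T)) g
  refine ⟨fun T x => cl T (Finsupp.single x 1, 0), fun {T U} f x => ?_, fun T g x => ?_, fun T x y h => ?_⟩
  · have := ConcreteCategory.congr_hom (η.naturality f.op) (QuotientAddGroup.mk (Finsupp.single x (1 : ℤ), 0))
    refine Eq.trans ?_ this
    show η.app (op U) _ = η.app (op U) (QuotientAddGroup.mk (resW B f (Finsupp.single x 1, 0)))
    refine congrArg (η.app (op U)) (congrArg QuotientAddGroup.mk ?_)
    simp [resW, Finsupp.mapDomain_single]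
  · have h0 := hcl T _ (Or.inl ⟨g, x, rfl⟩)
    have e' : (Finsupp.single (B.act T g x) (1 : ℤ) - Finsupp.single x 1, -g) =
        ((Finsupp.single (B.act T g x) (1 : ℤ), (0 : G.obj.obj (op T))) - (0, g)) - (Finsupp.single x 1, 0) := by
      ext <;> simp
    rw [e', map_sub, map_sub, sub_eq_zero, sub_eq_iff_eq_add, hj] at h0
    show cl T _ = _ + cl T _
    rw [h0, add_comm]
  · have h0 := hcl T _ (Or.inr ⟨x, y, h, rfl⟩)
    have e' : (Finsupp.single (B.add₂ T x y h) (1 : ℤ) - Finsupp.single x 1 - Finsupp.single y 1, (0 : G.obj.obj (op T))) =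
        (Finsupp.single (B.add₂ T x y h) 1, 0) - (Finsupp.single x 1, 0) - (Finsupp.single y 1, 0) := by
      ext <;> simp
    rw [e', map_sub, map_sub, sub_sub, sub_eq_zero] at h0
    exact h0

end Groth.Agent.BiextSec7
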