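import Groth.Agent.BiextSec7.Env
import Groth.Agent.BiextSec7.Cocycle
import Groth.Prelude.Def_CGrpSh2
import Mathlib.Algebra.Homology.DerivedCategory.Ext.ExactSequences
import Mathlib.CategoryTheory.Sites.EpiMono
import Mathlib.CategoryTheory.Sites.Limits
import Mathlib.CategoryTheory.Limits.FunctorCategory.Basic

/-! A biextension of `(P, Q)` by `G` is trivial if `Ext¹(P, Hom(Q, G))` and `Hom(P, Ext¹(Q, G))` vanish. -/

set_option autoImplicit false

universe w u

open CategoryTheory CategoryTheory.Limits Opposite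

namespace Groth.Agent.BiextSec7

open Groth.Agent.AbSch7 (sheaf_ext setSheaf_ext)
open Groth.Agent.GaExt25 (mkComp comp' comp'_ext comp'_natural)

variable {C : Type (u + 1)} [Category.{u} C] {J : GrothendieckTopology C}

section ShortComplexes

variable [HasSheafify J AddCommGrpCat.{u + 1}]

/-- Cycles exist on sections. -/
theorem exists_cycle (S : ShortComplex (Sheaf J AddCommGrpCat.{u + 1})) {T : C} (x : S.X₂.obj.obj (op T))
    (hx : S.g.hom.app (op T) x = 0) :
    ∃ c : S.cycles.obj.obj (op T), S.iCycles.hom.app (op T) c = x := by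
  let Φ := sheafToPresheaf J AddCommGrpCat.{u + 1} ⋙ (evaluation Cᵒᵖ AddCommGrpCat.{u + 1}).obj (op T)
  have : Φ.PreservesZeroMorphisms := ⟨fun _ _ => rfl⟩
  have hex : (ShortComplex.mk (Φ.map S.iCycles) (Φ.map S.g)
      (by rw [← Φ.map_comp, S.iCycles_g, Φ.map_zero])).Exact :=
    ShortComplex.exact_of_f_is_kernel _ (isLimitForkMapOfIsLimit' Φ S.iCycles_g S.cyclesIsKernel)
  exact (ShortComplex.ab_exact_iff _).1 hex x hx

theorem cycle_injective (S : ShortComplex (Sheaf J AddCommGrpCat.{u + 1})) (T : C) :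
    Function.Injective (S.iCycles.hom.app (op T)) := by
  have h : Mono ((sheafToPresheaf J AddCommGrpCat.{u + 1} ⋙
      (evaluation Cᵒᵖ AddCommGrpCat.{u + 1}).obj (op T)).map S.iCycles) := inferInstance
  exact (AddCommGrpCat.mono_iff_injective _).1 h

/-- Sections killed in the homology are locally boundaries. -/
theorem exists_local_preimage (S : ShortComplex (Sheaf J AddCommGrpCat.{u + 1})) {T : C}
    (c : S.cycles.obj.obj (op T)) (hc : S.homologyπ.hom.app (op T) c = 0) :
    ∃ R ∈ J T, ∀ ⦃U : C⦄ (f : U ⟶ T), R f →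
      ∃ a : S.X₁.obj.obj (op U), S.f.hom.app (op U) a = S.X₂.obj.map f.op (S.iCycles.hom.app (op T) c) := by
  let S' := ShortComplex.mk S.toCycles S.homologyπ S.toCycles_comp_homologyπ
  have hex : S'.Exact := ShortComplex.exact_of_g_is_cokernel _ S.homologyIsCokernel
  have he : Epi S'.toCycles := S'.exact_iff_epi_toCycles.1 hex
  have hls : Sheaf.IsLocallySurjective S'.toCycles := (Sheaf.isLocallySurjective_iff_epi' _ _).2 he
  obtain ⟨c', hc'⟩ := exists_cycle S' c hc
  refine ⟨Presheaf.imageSieve S'.toCycles.hom c', Presheaf.imageSieve_mem J _ c', fun U f hf => ?_⟩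
  obtain ⟨a, ha⟩ := hf
  refine ⟨a, ?_⟩
  have h1 := congrArg (S'.iCycles.hom.app (op U)) ha
  rw [app_map, hc', ← ConcreteCategory.comp_apply,
    show S'.toCycles.hom.app (op U) ≫ S'.iCycles.hom.app (op U) = S.toCycles.hom.app (op U) from
      NatTrans.congr_app (congrArg (fun φ => φ.hom) S'.toCycles_i) (op U)] at h1
  have h2 := congrArg (S.iCycles.hom.app (op U)) h1
  rw [app_map, ← ConcreteCategory.comp_apply,
    show S.toCycles.hom.app (op U) ≫ S.iCycles.hom.app (op U) = S.f.hom.app (op U) from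
      NatTrans.congr_app (congrArg (fun φ => φ.hom) S.toCycles_i) (op U)] at h2
  exact h2

end ShortComplexes

variable {P Q G I K : Sheaf J AddCommGrpCat.{u + 1}} {B : Biext J P Q G} (e : Equi B I K)

/-- Pairs of a point of `P` and a lift of its class. -/
def Lift (T : C) : Type (u + 1) :=
  {w : P.obj.obj (op T) × (HomSh.homSh J Q I).obj.obj (op T) // dH e T w.2 = kHom e w.1}

lemma kHom_zero (T : C) : dH e T (-cHom e (0 : P.obj.obj (op T)) 0) = kHom e 0 := by
  have h := kHom_add e (0 : P.obj.obj (op T)) 0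
  rw [add_zero, add_assoc, left_eq_add] at h
  rw [map_neg]
  exact (eq_neg_of_add_eq_zero_left h).symm

lemma cHom_zero_left {T : C} (p : P.obj.obj (op T)) : cHom e 0 p = cHom e 0 0 := by
  have h := cHom_assoc e (0 : P.obj.obj (op T)) 0 p
  simp only [add_zero, zero_add] at h
  exact (add_right_cancel h).symm

noncomputable instance (T : C) : Add (Lift e T) :=
  ⟨fun a b => ⟨(a.1.1 + b.1.1, a.1.2 + b.1.2 + cHom e a.1.1 b.1.1), by
    rw [kHom_add e, ← a.2, ← b.2, map_add, map_add]⟩⟩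

noncomputable instance (T : C) : Zero (Lift e T) := ⟨⟨(0, -cHom e 0 0), kHom_zero e T⟩⟩

noncomputable instance (T : C) : Neg (Lift e T) :=
  ⟨fun a => ⟨(-a.1.1, -a.1.2 - cHom e a.1.1 (-a.1.1) - cHom e 0 0), by
    have h := kHom_add e a.1.1 (-a.1.1)
    rw [add_neg_cancel, ← kHom_zero e, map_neg, ← a.2] at h
    rw [map_sub, map_sub, map_neg]
    rw [← sub_eq_iff_eq_add] at h
    have h3 : kHom e (-a.1.1) = (dH e T a.1.2 + kHom e (-a.1.1)) - dH e T a.1.2 := by abel
    rw [h3, ← h]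
    abel⟩⟩

noncomputable instance (T : C) : AddCommGroup (Lift e T) where
  add_assoc a b c := Subtype.ext (Prod.ext (add_assoc _ _ _) (by
    show a.1.2 + b.1.2 + cHom e a.1.1 b.1.1 + c.1.2 + cHom e (a.1.1 + b.1.1) c.1.1 =
      a.1.2 + (b.1.2 + c.1.2 + cHom e b.1.1 c.1.1) + cHom e a.1.1 (b.1.1 + c.1.1)
    have h := cHom_assoc e a.1.1 b.1.1 c.1.1
    rw [← eq_sub_iff_add_eq] at h
    rw [h]; abel))
  add_comm a b := Subtype.ext (Prod.ext (add_comm _ _) (by
    show a.1.2 + b.1.2 + cHom e a.1.1 b.1.1 = b.1.2 + a.1.2 + cHom e b.1.1 a.1.1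
    rw [cHom_comm e a.1.1]; abel))
  zero_add a := Subtype.ext (Prod.ext (zero_add _) (by
    show -cHom e 0 0 + a.1.2 + cHom e 0 a.1.1 = a.1.2
    rw [cHom_zero_left e a.1.1]; abel))
  add_zero a := Subtype.ext (Prod.ext (add_zero _) (by
    show a.1.2 + -cHom e 0 0 + cHom e a.1.1 0 = a.1.2
    rw [cHom_comm e a.1.1, cHom_zero_left e a.1.1]; abel))
  neg_add_cancel a := Subtype.ext (Prod.ext (neg_add_cancel _) (by
    show -a.1.2 - cHom e a.1.1 (-a.1.1) - cHom e 0 0 + a.1.2 + cHom e (-a.1.1) a.1.1 = -cHom e 0 0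
    rw [cHom_comm e (-a.1.1)]; abel))
  nsmul := nsmulRec
  zsmul := zsmulRec

/-- Restriction of lifts. -/
noncomputable def liftMap {T U : C} (f : U ⟶ T) : Lift e T →+ Lift e U :=
  AddMonoidHom.mk' (fun a => ⟨(P.obj.map f.op a.1.1, (HomSh.homSh J Q I).obj.map f.op a.1.2), by
      show dH e U _ = kHom e _
      rw [← kHom_map, ← a.2]
      exact app_map _ _ _⟩)
    fun a b => Subtype.ext (Prod.ext (map_add _ _ _) (by
      show (HomSh.homSh J Q I).obj.map f.op (a.1.2 + b.1.2 + cHom e a.1.1 b.1.1) = _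
      rw [map_add, map_add, cHom_map]
      rfl))

/-- The presheaf of lifts. -/
noncomputable def liftPre : Cᵒᵖ ⥤ AddCommGrpCat.{u + 1} where
  obj T := AddCommGrpCat.of (Lift e (unop T))
  map f := AddCommGrpCat.ofHom (liftMap e f.unop)
  map_id T := AddCommGrpCat.ext fun a =>
    Subtype.ext (Prod.ext (map_id' P.obj _) (map_id' (HomSh.homSh J Q I).obj _))
  map_comp f g := AddCommGrpCat.ext fun a =>
    Subtype.ext (Prod.ext (map_map P.obj f.unop g.unop _).symm
      (map_map (HomSh.homSh J Q I).obj f.unop g.unop _).symm)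

theorem isSheaf_liftPre : Presheaf.IsSheaf J (liftPre e) := by
  rw [Presheaf.isSheaf_iff_isSheaf_comp J (liftPre e) (forget AddCommGrpCat.{u + 1}),
    isSheaf_iff_isSheaf_of_type]
  intro T R hR fam hfam
  have hP := (isSheaf_iff_isSheaf_of_type J _).1 (Biext.uSh J P).2 R hR
  have hH := (isSheaf_iff_isSheaf_of_type J _).1 (Biext.uSh J (HomSh.homSh J Q I)).2 R hR
  let fP : Presieve.FamilyOfElements (Biext.uSh J P).obj R.arrows := fun U f hf => (fam f hf).1.1
  let fH : Presieve.FamilyOfElements (Biext.uSh J (HomSh.homSh J Q I)).obj R.arrows := fun U f hf => (fam f hf).1.2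
  have cP : fP.Compatible := fun Y₁ Y₂ Z g₁ g₂ f₁ f₂ h₁ h₂ h =>
    congrArg (fun a : Lift e Z => a.1.1) (hfam g₁ g₂ h₁ h₂ h)
  have cH : fH.Compatible := fun Y₁ Y₂ Z g₁ g₂ f₁ f₂ h₁ h₂ h =>
    congrArg (fun a : Lift e Z => a.1.2) (hfam g₁ g₂ h₁ h₂ h)
  let p : P.obj.obj (op T) := hP.amalgamate fP cP
  let h : (HomSh.homSh J Q I).obj.obj (op T) := hH.amalgamate fH cH
  have hp : ∀ {U : C} (f : U ⟶ T) (hf : R f), P.obj.map f.op p = (fam f hf).1.1 :=
    fun f hf => hP.valid_glue cP f hf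
  have hh : ∀ {U : C} (f : U ⟶ T) (hf : R f), (HomSh.homSh J Q I).obj.map f.op h = (fam f hf).1.2 :=
    fun f hf => hH.valid_glue cH f hf
  refine ⟨⟨(p, h), sheaf_ext (HomSh.homSh J Q K) hR _ _ fun U f hf => ?_⟩,
    fun U f hf => Subtype.ext (Prod.ext (hp f hf) (hh f hf)), fun a ha => ?_⟩
  · show (HomSh.homSh J Q K).obj.map f.op (dH e T h) = _
    rw [kHom_map, hp f hf, ← (fam f hf).2, ← hh f hf]
    exact (app_map _ _ _).symm
  · refine Subtype.ext (Prod.ext (sheaf_ext P hR _ _ fun U f hf => ?_)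
      (sheaf_ext (HomSh.homSh J Q I) hR _ _ fun U f hf => ?_))
    · rw [hp f hf]; exact congrArg (fun a : Lift e U => a.1.1) (ha f hf)
    · rw [hh f hf]; exact congrArg (fun a : Lift e U => a.1.2) (ha f hf)

/-- The sheaf of lifts. -/
noncomputable def liftSh : Sheaf J AddCommGrpCat.{u + 1} := ⟨liftPre e, isSheaf_liftPre e⟩

/-- The projection to `P`. -/
noncomputable def liftProj : liftSh e ⟶ P :=
  ⟨{ app := fun T => AddCommGrpCat.ofHom (AddMonoidHom.mk' (fun a : Lift e (unop T) => a.1.1) fun _ _ => rfl)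
     naturality := fun _ _ _ => rfl }⟩

lemma dH_jH {T : C} (φ : (HomSh.homSh J Q G).obj.obj (op T)) :
    dH e T ((HomSh.homShMap J (𝟙 Q) e.j).hom.app (op T) φ) = 0 :=
  comp'_ext (F := Q) (G := K) (T := T) fun U f q => e.w U _

/-- The inclusion of the internal Hom. -/
noncomputable def liftIncl : HomSh.homSh J Q G ⟶ liftSh e :=
  ⟨{ app := fun T => AddCommGrpCat.ofHom (AddMonoidHom.mk'
      (fun φ => (⟨(0, (HomSh.homShMap J (𝟙 Q) e.j).hom.app T φ - cHom e 0 0), by
          show dH e (unop T) _ = _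
          refine (map_sub _ _ _).trans ?_
          rw [show dH e (unop T) ((HomSh.homShMap J (𝟙 Q) e.j).hom.app T φ) = 0 from dH_jH e φ, zero_sub, ← map_neg]
          exact kHom_zero e (unop T)⟩ : Lift e (unop T)))
      fun φ φ' => Subtype.ext (Prod.ext (zero_add _).symm (by
        show _ = (HomSh.homShMap J (𝟙 Q) e.j).hom.app T φ - cHom e 0 0 +
          ((HomSh.homShMap J (𝟙 Q) e.j).hom.app T φ' - cHom e 0 0) + cHom e 0 0
        refine (congrArg (· - cHom e 0 0) (map_add ((HomSh.homShMap J (𝟙 Q) e.j).hom.app T).hom φ φ')).trans ?_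
        show ((HomSh.homShMap J (𝟙 Q) e.j).hom.app T φ + (HomSh.homShMap J (𝟙 Q) e.j).hom.app T φ') - cHom e 0 0 = _
        abel)))
     naturality := fun T U f => AddCommGrpCat.ext fun φ => Subtype.ext (Prod.ext
       (map_zero (P.obj.map f).hom).symm (by
        show (HomSh.homShMap J (𝟙 Q) e.j).hom.app U ((HomSh.homSh J Q G).obj.map f φ) - cHom e 0 0 =
          (HomSh.homSh J Q I).obj.map f.unop.op (_ - cHom e 0 0)
        rw [map_sub, cHom_map, map_zero]
        exact congrArg (· - cHom e 0 0) (app_map _ f.unop φ))) }⟩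

variable [HasSheafify J AddCommGrpCat.{u + 1}] [HasExt.{w} (Sheaf J AddCommGrpCat.{u + 1})]

/-- A biextension with an equivariant map splits if every class lifts locally. -/
theorem isTrivial_of_equi (hj : ∀ T, Function.Injective (e.j.hom.app (op T)))
    (hker : ∀ T a, e.d.hom.app (op T) a = 0 → ∃ g, e.j.hom.app (op T) g = a)
    (hloc : ∀ (T : C) (p : P.obj.obj (op T)), ∃ R ∈ J T, ∀ ⦃U : C⦄ (f : U ⟶ T), R f →
      ∃ h : (HomSh.homSh J Q I).obj.obj (op U), dH e U h = kHom e (P.obj.map f.op p))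
    (hext : ∀ x : Abelian.Ext.{w} P (HomSh.homSh J Q G) 1, x = 0) :
    Biext.IsTrivial J B := by
  have hinj : ∀ T, Function.Injective ((liftIncl e).hom.app (op T)) := by
    intro T φ φ' h
    have h' := congrArg (fun a : Lift e T => a.1.2) h
    have h'' : (HomSh.homShMap J (𝟙 Q) e.j).hom.app (op T) φ =
        (HomSh.homShMap J (𝟙 Q) e.j).hom.app (op T) φ' := sub_left_inj.1 h'
    refine comp'_ext (F := Q) (G := G) (T := T) fun U f q => hj U ?_
    exact congrArg (fun ψ => comp' (F := Q) (G := I) ψ f q) h''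
  have hw : liftIncl e ≫ liftProj e = 0 := rfl
  have : Mono (liftIncl e) := by
    refine ⟨fun {W} a b h => Sheaf.hom_ext (NatTrans.ext (funext fun T => AddCommGrpCat.ext fun x =>
      hinj (unop T) ?_))⟩
    exact ConcreteCategory.congr_hom (NatTrans.congr_app (congrArg (fun φ => φ.hom) h) T) x
  have : Sheaf.IsLocallySurjective (liftProj e) := ⟨fun {T} p => by
    obtain ⟨R, hR, h⟩ := hloc T p
    refine J.superset_covering (fun U f hf => ?_) hR
    obtain ⟨h', hh'⟩ := h f hf
    exact ⟨(⟨(P.obj.map f.op p, h'), hh'⟩ : Lift e U), rfl⟩⟩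
  have hepi : Epi (liftProj e) := (Sheaf.isLocallySurjective_iff_epi' _ _).1 this
  have hlift : ∀ {T : C} (a : Lift e T), a.1.1 = 0 → ∃ φ, (liftIncl e).hom.app (op T) φ = a := by
    intro T a ha
    let b := a.1.2 + cHom e 0 0
    have hb : dH e T b = 0 := by
      rw [map_add, a.2, ha, ← kHom_zero e, map_neg, neg_add_cancel]
    have hbU : ∀ (U : C) (f : U ⟶ T) q, ∃ g, e.j.hom.app (op U) g = comp' (F := Q) (G := I) b f q :=
      fun U f q => hker U _ (congrArg (fun ψ => comp' (F := Q) (G := K) ψ f q) hb)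
    choose g hg using hbU
    let φ : Q.over T ⟶ G.over T := mkComp (fun U f => AddMonoidHom.mk' (g U f) (fun q q' => hj U (by
        rw [map_add, hg, hg, hg, map_add])))
      (fun U V h f q => hj V (by
        show e.j.hom.app (op V) (G.obj.map h.op (g U f q)) = e.j.hom.app (op V) (g V _ _)
        rw [app_map, hg, hg]
        exact comp'_natural (F := Q) (G := I) b h f q))
    refine ⟨φ, Subtype.ext (Prod.ext ha.symm ?_)⟩
    show (HomSh.homShMap J (𝟙 Q) e.j).hom.app (op T) φ - cHom e 0 0 = a.1.2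
    have : (HomSh.homShMap J (𝟙 Q) e.j).hom.app (op T) φ = b :=
      comp'_ext (F := Q) (G := I) (T := T) fun U f q => hg U f q
    rw [this]
    exact add_sub_cancel_right _ _
  let S := ShortComplex.mk (liftIncl e) (liftProj e) hw
  have hex : S.Exact := by
    refine S.exact_of_f_is_kernel (KernelFork.IsLimit.ofι' _ _ fun {W} k hk => ?_)
    have hk' : ∀ (T : Cᵒᵖ) x, ∃ φ, (liftIncl e).hom.app T φ = k.hom.app T x := fun T x =>
      hlift (T := unop T) (k.hom.app T x)
        (ConcreteCategory.congr_hom (NatTrans.congr_app (congrArg (fun φ => φ.hom) hk) T) x)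
    choose φ hφ using hk'
    refine ⟨⟨{ app := fun T => AddCommGrpCat.ofHom (AddMonoidHom.mk' (φ T) fun x y => hinj (unop T) ?_)
               naturality := fun T U f => AddCommGrpCat.ext fun x => hinj (unop U) ?_ }⟩, ?_⟩
    · exact (hφ T (x + y)).trans ((map_add _ _ _).trans
        ((congrArg₂ (· + ·) (hφ T x).symm (hφ T y).symm).trans (map_add _ _ _).symm))
    · exact (hφ U _).trans ((app_map k f.unop x).trans
        ((congrArg _ (hφ T x).symm).trans (app_map (liftIncl e) f.unop _).symm))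
    · exact Sheaf.hom_ext (NatTrans.ext (funext fun T => AddCommGrpCat.ext fun x => hφ T x))
  have hS : S.ShortExact := ⟨hex⟩
  obtain ⟨σ₀, hσ₀⟩ := Abelian.Ext.covariant_sequence_exact₃ P hS (Abelian.Ext.mk₀ (𝟙 P)) rfl (hext _)
  obtain ⟨σ, rfl⟩ := Abelian.Ext.mk₀_bijective _ _ |>.2 σ₀
  rw [Abelian.Ext.mk₀_comp_mk₀] at hσ₀
  have hσ : σ ≫ liftProj e = 𝟙 P := (Abelian.Ext.mk₀_bijective _ _).1 hσ₀
  let s : ∀ {T : C}, P.obj.obj (op T) → Lift e T := fun {T} p => σ.hom.app (op T) p
  have hs1 : ∀ {T : C} (p : P.obj.obj (op T)), (s p).1.1 = p := fun {T} p =>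
    ConcreteCategory.congr_hom (NatTrans.congr_app (congrArg (fun φ => φ.hom) hσ) (op T)) p
  let h : ∀ {T : C}, P.obj.obj (op T) → (HomSh.homSh J Q I).obj.obj (op T) := fun {T} p => (s p).1.2
  have hd : ∀ {T : C} (p : P.obj.obj (op T)), dH e T (h p) = kHom e p := fun {T} p => by
    have := (s p).2; rwa [hs1] at this
  have hnat : ∀ {T U : C} (f : U ⟶ T) p, (HomSh.homSh J Q I).obj.map f.op (h p) = h (P.obj.map f.op p) :=
    fun {T U} f p => (congrArg (fun a : Lift e U => a.1.2) (app_map σ f p)).symm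
  have hadd : ∀ {T : C} (p p' : P.obj.obj (op T)), h (p + p') = h p + h p' + cHom e p p' :=
    fun {T} p p' => by
      have h1 : s (p + p') = s p + s p' := map_add (σ.hom.app (op T)).hom p p'
      refine (congrArg (fun a : Lift e T => a.1.2) h1).trans ?_
      show h p + h p' + cHom e (s p).1.1 (s p').1.1 = _
      rw [hs1, hs1]
  let H : ∀ {T : C}, P.obj.obj (op T) → Q.obj.obj (op T) → I.obj.obj (op T) := fun {T} p q =>
    comp' (F := Q) (G := I) (h p) (𝟙 T) q
  have Hd : ∀ {T : C} (p : P.obj.obj (op T)) q, e.d.hom.app (op T) (H p q) = k2 e p q := fun {T} p q => by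
    have := congrArg (fun ψ => comp' (F := Q) (G := K) ψ (𝟙 T) q) (hd p)
    refine this.trans ?_
    show k2 e (P.obj.map (𝟙 T).op p) q = k2 e p q
    rw [map_id']
  have Hnat : ∀ {T U : C} (f : U ⟶ T) p q, I.obj.map f.op (H p q) = H (P.obj.map f.op p) (Q.obj.map f.op q) := by
    intro T U f p q
    show I.obj.map f.op (comp' (F := Q) (G := I) (h p) (𝟙 T) q) = _
    refine (comp'_natural (F := Q) (G := I) (h p) f (𝟙 T) q).trans ?_
    show comp' (F := Q) (G := I) (h p) (f ≫ 𝟙 T) _ = comp' (F := Q) (G := I) (h (P.obj.map f.op p)) (𝟙 U) _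
    rw [← hnat, Category.comp_id]
    refine Eq.trans ?_ (GaExt25.comp'_homSh_map f (h p) (𝟙 U) _).symm
    rw [Category.id_comp]
  have Hadd : ∀ {T : C} (p p' : P.obj.obj (op T)) q, H (p + p') q = H p q + H p' q + c2 e p p' q :=
    fun {T} p p' q => by
      refine (congrArg (fun ψ => comp' (F := Q) (G := I) ψ (𝟙 T) q) (hadd p p')).trans ?_
      show H p q + H p' q + c2 e (P.obj.map (𝟙 T).op p) (P.obj.map (𝟙 T).op p') q = _
      rw [map_id', map_id']
  have hu : ∀ {T : C} (x x' : B.E.obj.obj (op T)), B.πP T x = B.πP T x' → B.πQ T x = B.πQ T x' →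
      e.i T x = e.i T x' → x = x' := by
    intro T x x' h1 h2 h3
    obtain ⟨g, hg, -⟩ := B.existsUnique_act T x x' h1 h2
    rw [← hg, e.i_act, right_eq_add] at h3
    rw [← hg, show g = 0 from hj T (by rw [h3, map_zero]), B.zero_act]
  have hσex : ∀ {T : C} (p : P.obj.obj (op T)) (q : Q.obj.obj (op T)),
      ∃ x, B.πP T x = p ∧ B.πQ T x = q ∧ e.i T x = H p q := by
    intro T p q
    obtain ⟨x, hx, -⟩ := exists_glue B.E (T := T)
      (fun U f x => Over2 B p q f x ∧ e.i U x = I.obj.map f.op (H p q))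
      (fun U V g f x ⟨h1, h2⟩ => ⟨h1.res g, by rw [e.i_map, h2, map_map]⟩)
      (fun U f x x' ⟨h1, h2⟩ ⟨h1', h2'⟩ =>
        hu x x' (h1.1.trans h1'.1.symm) (h1.2.trans h1'.2.symm) (h2.trans h2'.symm))
      (by
        obtain ⟨R, hR, hx⟩ := B.locallySurjective T p q
        refine ⟨R, hR, fun U f hf => ?_⟩
        obtain ⟨x, h1, h2⟩ := hx f hf
        obtain ⟨g, hg⟩ := hker U (I.obj.map f.op (H p q) - e.i U x) (by
          rw [map_sub, app_map, Hd, k2_spec e f x ⟨h1, h2⟩, sub_self])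
        exact ⟨B.act U g x, ⟨(B.πP_act ..).trans h1, (B.πQ_act ..).trans h2⟩, by
          rw [e.i_act, hg, sub_add_cancel]⟩)
    obtain ⟨R, hR, hloc'⟩ := B.locallySurjective T p q
    have loc : ∀ ⦃U : C⦄ (f : U ⟶ T), R f →
        Over2 B p q f (B.E.obj.map f.op x) ∧ e.i U (B.E.obj.map f.op x) = I.obj.map f.op (H p q) := by
      intro U f hf
      obtain ⟨y, h1, h2⟩ := hloc' f hf
      obtain ⟨g, hg⟩ := hker U (I.obj.map f.op (H p q) - e.i U y) (by
          rw [map_sub, app_map, Hd, k2_spec e f y ⟨h1, h2⟩, sub_self])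
      have hy : Over2 B p q f (B.act U g y) ∧ e.i U (B.act U g y) = I.obj.map f.op (H p q) :=
        ⟨⟨(B.πP_act ..).trans h1, (B.πQ_act ..).trans h2⟩, by rw [e.i_act, hg, sub_add_cancel]⟩
      rw [hx f _ hy]
      exact hy
    refine ⟨x, sheaf_ext P hR _ _ fun U f hf => ?_, sheaf_ext Q hR _ _ fun U f hf => ?_,
      sheaf_ext I hR _ _ fun U f hf => ?_⟩
    · rw [← B.πP_map, (loc f hf).1.1]
    · rw [← B.πQ_map, (loc f hf).1.2]
    · rw [← e.i_map, (loc f hf).2]
  choose x hxP hxQ hxI using @hσex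
  refine ⟨{ σ := fun T p q => x p q, πP_σ := fun T p q => hxP p q, πQ_σ := fun T p q => hxQ p q,
            σ_map := ?_, σ_add₁ := ?_, σ_add₂ := ?_ }⟩
  · intro T U f p q
    refine hu _ _ ?_ ?_ ?_
    · rw [B.πP_map, hxP, hxP]
    · rw [B.πQ_map, hxQ, hxQ]
    · rw [e.i_map, hxI, hxI, Hnat]
  · intro T p p' q
    refine hu _ _ ?_ ?_ ?_
    · rw [B.πP_add₁, hxP, hxP, hxP]
    · rw [B.πQ_add₁, hxQ, hxQ]
    · rw [i_add₁, hxI, hxI, hxI, hxP, hxP, hxQ, Hadd]
  · intro T p q q'
    refine hu _ _ ?_ ?_ ?_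
    · rw [B.πP_add₂, hxP, hxP]
    · rw [B.πQ_add₂, hxQ, hxQ, hxQ]
    · rw [e.i_add₂, hxI, hxI, hxI]
      exact map_add (comp' (F := Q) (G := I) (h p) (𝟙 T)) q q'

variable [HasInjectiveResolutions (Sheaf J AddCommGrpCat.{u + 1})]

/-- The criterion. -/
theorem isTrivial_of_ext_homSh_of_hom_extSh (B : Biext J P Q G)
    (h₁ : ∀ x : Abelian.Ext.{w} P (HomSh.homSh J Q G) 1, x = 0)
    (h₂ : ∀ φ : P ⟶ (HomSh.extSh J Q 1).obj G, φ = 0) : Biext.IsTrivial J B := by
  obtain ⟨R⟩ := (inferInstance : HasInjectiveResolution G).out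
  let F := HomSh.homShFunctor J Q
  let j : G ⟶ R.cocomplex.X 0 := R.ι.f 0
  let d : R.cocomplex.X 0 ⟶ R.cocomplex.X 1 := R.cocomplex.d 0 1
  have hjd : j ≫ d = 0 := R.ι_f_zero_comp_complex_d
  have hjmono : ∀ T, Function.Injective (j.hom.app (op T)) := fun T => by
    have : Mono ((sheafToPresheaf J AddCommGrpCat.{u + 1} ⋙
        (evaluation Cᵒᵖ AddCommGrpCat.{u + 1}).obj (op T)).map j) := by
      have : Mono j := inferInstanceAs (Mono (R.ι.f 0))
      infer_instance
    exact (AddCommGrpCat.mono_iff_injective _).1 this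
  have hker : ∀ T a, d.hom.app (op T) a = 0 → ∃ g, j.hom.app (op T) g = a := by
    intro T a ha
    let Φ := sheafToPresheaf J AddCommGrpCat.{u + 1} ⋙ (evaluation Cᵒᵖ AddCommGrpCat.{u + 1}).obj (op T)
    have : Φ.PreservesZeroMorphisms := ⟨fun _ _ => rfl⟩
    have hex : (ShortComplex.mk (Φ.map j) (Φ.map d) (by rw [← Φ.map_comp, hjd, Φ.map_zero])).Exact :=
      ShortComplex.exact_of_f_is_kernel _ (isLimitForkMapOfIsLimit' Φ hjd R.isLimitKernelFork)
    exact (ShortComplex.ab_exact_iff _).1 hex a ha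
  obtain ⟨i, hi1, hi2, hi3⟩ := exists_equivariant B (R.cocomplex.X 0) j
  let e : Equi B (R.cocomplex.X 0) (R.cocomplex.X 1) :=
    { j := j, d := d
      w := fun T g => ConcreteCategory.congr_hom
        (NatTrans.congr_app (congrArg (fun φ => φ.hom) hjd) (op T)) g
      i := i, i_map := hi1, i_act := hi2, i_add₂ := hi3 }
  let S : ShortComplex (Sheaf J AddCommGrpCat.{u + 1}) :=
    ShortComplex.mk (F.map d) (F.map (R.cocomplex.d 1 2))
      (by rw [← F.map_comp, R.cocomplex.d_comp_d, F.map_zero])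
  have hcyc : ∀ {T : C} (p : P.obj.obj (op T)), S.g.hom.app (op T) (kHom e p) = 0 := by
    intro T p
    refine comp'_ext (F := Q) (G := R.cocomplex.X 2) (T := T) fun U f q => ?_
    show (R.cocomplex.d 1 2).hom.app (op U) (k2 e (P.obj.map f.op p) q) = 0
    refine eq_of_over2 B (R.cocomplex.X 2) (P.obj.map f.op p) q fun {V} g x hx => ?_
    rw [← app_map, k2_spec e g x hx, map_zero]
    exact ConcreteCategory.congr_hom
      (NatTrans.congr_app (congrArg (fun φ => φ.hom) (R.cocomplex.d_comp_d 0 1 2)) (op V)) (i V x)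
  choose c hc using fun (T : C) (p : P.obj.obj (op T)) => exists_cycle S (kHom e p) (hcyc p)
  have hcb : ∀ {T : C} (p p' : P.obj.obj (op T)),
      c T (p + p') = c T p + c T p' + S.toCycles.hom.app (op T) (cHom e p p') := by
    intro T p p'
    apply cycle_injective S T
    rw [map_add, map_add, hc, hc, hc]
    refine (kHom_add e p p').trans (congrArg (fun y => kHom e p + kHom e p' + y) ?_)
    exact (ConcreteCategory.congr_hom
      (NatTrans.congr_app (congrArg (fun φ => φ.hom) S.toCycles_i) (op T)) (cHom e p p')).symm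
  let δ : P ⟶ S.homology :=
    ⟨{ app := fun T => AddCommGrpCat.ofHom (AddMonoidHom.mk'
          (fun p => S.homologyπ.hom.app T (c (unop T) p)) fun p p' => by
            rw [hcb, map_add, map_add]
            refine (congrArg (fun y => S.homologyπ.hom.app T (c (unop T) p) + S.homologyπ.hom.app T (c (unop T) p') + y)
              (ConcreteCategory.congr_hom
                (NatTrans.congr_app (congrArg (fun φ => φ.hom) S.toCycles_comp_homologyπ) T) (cHom e p p'))).trans ?_
            exact add_zero _)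
       naturality := fun T U f => AddCommGrpCat.ext fun p => by
         show S.homologyπ.hom.app U (c (unop U) (P.obj.map f.unop.op p)) =
           S.homology.obj.map f.unop.op (S.homologyπ.hom.app T (c (unop T) p))
         rw [← app_map S.homologyπ f.unop]
         congr 1
         apply cycle_injective S (unop U)
         rw [hc, app_map, hc]
         exact (kHom_map e f.unop p).symm }⟩
  have hδ : δ = 0 := by
    let T' := (F.mapHomologicalComplex _).obj R.cocomplex
    let iso : (HomSh.extSh J Q 1).obj G ≅ S.homology :=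
      eqToIso (by rw [HomSh.extSh_def]) ≪≫ R.isoRightDerivedObj F 1 ≪≫
        ShortComplex.homologyMapIso (T'.isoSc' 0 1 2 (by simp) (by simp))
    have := h₂ (δ ≫ iso.inv)
    rw [← cancel_mono iso.inv, this, zero_comp]
  refine isTrivial_of_equi e hjmono hker (fun T p => ?_) h₁
  have h0 : S.homologyπ.hom.app (op T) (c T p) = 0 :=
    (ConcreteCategory.congr_hom (NatTrans.congr_app (congrArg (fun φ => φ.hom) hδ) (op T)) p)
  obtain ⟨Rc, hRc, hpre⟩ := exists_local_preimage S (c T p) h0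
  refine ⟨Rc, hRc, fun U f hf => ?_⟩
  obtain ⟨a, ha⟩ := hpre f hf
  rw [hc] at ha
  exact ⟨a, ha.trans (kHom_map e f p)⟩

end Groth.Agent.BiextSec7
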